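import Cfsg.Agent.Lib.M23CodeSplit.Collect

/-!
Kernel checks of the equations and of the tables of elements.
-/

set_option autoImplicit false
set_option maxRecDepth 20000

namespace Cfsg.Agent.M23CodeSplit.Checks

open Cfsg Cfsg.Agent.Golay.Basic Cfsg.Agent.Golay.Cert Cfsg.Agent.Golay.TabList
open Cfsg.Agent.Golay.M24
open Cfsg.Agent.M23Cocode Cfsg.Agent.M23CodeSplit.Collect

/-- A conjugating element. -/
def gT (u : ℕ) : ℕ := Data.gTabs.getD u idTab

/-- Its images. -/
def gI (u : ℕ) : List ℕ := Data.gImgs.getD u []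

/-- A table with images of the basis. -/
def imgChk (t : ℕ) (gi : List ℕ) : Bool :=
  tabOK t && Nat.beq (tabAt t 23) 23 && (List.range 11).all fun j =>
    Nat.blt (gi.getD j 0) 2048 && Nat.beq (imgTab t (Loop.cm (Loop.bit j))) (enc Cfsg.Agent.M23Cocode.Data.sub (gi.getD j 0))

/-- The elements. -/
def elemsOk : Bool :=
  (List.range 128).all (fun e => imgChk (elemT e) (imgsOf e)) &&
    (List.range 4).all (fun u => imgChk (gT u) (gI u)) &&
    Nat.beq (elemT 0) idTab &&
    (List.range 7).all (fun n => Nat.beq (pcT n) (elemT (2 ^ n)) && (List.range (2 ^ n)).all fun e =>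
      Nat.beq (elemT (2 ^ n + e)) (mulTab (elemT (2 ^ n)) (elemT e)))

theorem elemsOk_eq : elemsOk = true := by decide +kernel

/-- Only the empty normal form is the identity. -/
def nfOk : Bool :=
  (List.range 127).all fun e => !(List.range 24).all fun i => Nat.beq (tabAt (elemT (e + 1)) i) i

theorem nfOk_eq : nfOk = true := by decide +kernel

/-- The normal forms give distinct tables. -/
def distinctOk : Bool :=
  (List.range 128).all fun x => canon (elemT x) &&
    (List.range 128).all fun y => !Nat.beq (elemT x) (elemT y) || Nat.beq x y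

theorem distinctOk_eq : distinctOk = true := by decide +kernel

/-- The code facts for the basis. -/
def basisOk : Bool :=
  (List.range 11).all fun j => isCode (Loop.cm (Loop.bit j)) && !(Loop.cm (Loop.bit j)).testBit 23

theorem basisOk_eq : basisOk = true := by decide +kernel

/-- Every code word avoiding the last point is in the span. -/
def spanOk : Bool :=
  codeList.all fun m => m.testBit 23 ||
    Nat.beq (enc Cfsg.Agent.M23Cocode.Data.sub (Loop.decAux Cfsg.Agent.M23Cocode.Data.dual m % 2048)) m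

theorem spanOk_eq : spanOk = true := by decide +kernel

/-- The relations in the order of their blocks. -/
def relPairs : List (ℕ × ℕ) :=
  (List.range 7).map (fun k => (k, k)) ++
    (List.range 7).flatMap fun j => (List.range j).map fun k => (k, j)

/-- The target as a normal form. -/
def fullTgt (k j : ℕ) : ℕ := cond (Nat.beq k j) (tgt k j) (2 ^ j + tgt k j)

/-- The relations hold in the permutation group. -/
def relOk : Bool :=
  (List.range 7).all fun j => (List.range (j + 1)).all fun k =>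
    Nat.blt ((Data.block.getD j []).getD k 0) 28 &&
      (relPairs.getD ((Data.block.getD j []).getD k 0) (0, 0) == (k, j)) &&
      Nat.blt (tgt k j) (2 ^ j) &&
      Nat.beq (mulTab (pcT k) (pcT j)) (elemT (fullTgt k j))

theorem relOk_eq : relOk = true := by decide +kernel

/-- A conjugate pair. -/
def cp (i : ℕ) : ℕ × ℕ × ℕ := Data.conj.getD i (0, 0, 0)

/-- The conjugates are as tabulated. -/
def conjOk : Bool :=
  (List.range 144).all fun i =>
    Nat.blt (cp i).1 4 && Nat.blt (cp i).2.1 128 && Nat.blt (cp i).2.2 128 &&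
      Nat.beq (mulTab (gT (cp i).1) (elemT (cp i).2.1)) (mulTab (elemT (cp i).2.2) (gT (cp i).1))

theorem conjOk_eq : conjOk = true := by decide +kernel

/-- The form of the first kind of equation. -/
def assocF (a b c : ℕ) : List ℕ :=
  addF (addF (mulNF 7 a b).2 (mulNF 7 (mulNF 7 a b).1 c).2)
    (addF (actF (imgsOf a) (mulNF 7 b c).2) (mulNF 7 a (mulNF 7 b c).1).2)

/-- The block of a conjugate pair. -/
def cblock (o : ℕ) : List ℕ := varF (28 + o)

/-- The form of the second kind of equation. -/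
def stabF (o1 o2 o3 : ℕ) : List ℕ :=
  addF (addF (actF (gI (cp o1).1) (mulNF 7 (cp o1).2.1 (cp o2).2.1).2) (cblock o3))
    (addF (addF (cblock o1) (actF (imgsOf (cp o1).2.2) (cblock o2)))
      (mulNF 7 (cp o1).2.2 (cp o2).2.2).2)

/-- One equation. -/
def eqChk (e : ℕ × ℕ × ℕ × ℕ × ℕ) (row : ℕ) : Bool :=
  Nat.blt e.2.2.2.2 11 &&
  cond (Nat.beq e.1 0)
    (Nat.blt e.2.1 7 && Nat.blt e.2.2.1 7 && Nat.blt e.2.2.2.1 7 &&
      Nat.beq ((assocF (2 ^ e.2.1) (2 ^ e.2.2.1) (2 ^ e.2.2.2.1)).getD e.2.2.2.2 0) row &&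
      Nat.beq (mulNF 7 (mulNF 7 (2 ^ e.2.1) (2 ^ e.2.2.1)).1 (2 ^ e.2.2.2.1)).1
        (mulNF 7 (2 ^ e.2.1) (mulNF 7 (2 ^ e.2.2.1) (2 ^ e.2.2.2.1)).1).1)
    (Nat.blt e.2.1 144 && Nat.blt e.2.2.1 144 && Nat.blt e.2.2.2.1 144 &&
      Nat.beq ((stabF e.2.1 e.2.2.1 e.2.2.2.1).getD e.2.2.2.2 0) row &&
      Nat.beq (cp e.2.2.1).1 (cp e.2.1).1 && Nat.beq (cp e.2.2.2.1).1 (cp e.2.1).1 &&
      Nat.beq (mulNF 7 (cp e.2.1).2.1 (cp e.2.2.1).2.1).1 (cp e.2.2.2.1).2.1 &&
      Nat.beq (mulNF 7 (cp e.2.1).2.2 (cp e.2.2.1).2.2).1 (cp e.2.2.2.1).2.2)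

/-- All equations. -/
def eqsOk : Bool :=
  (List.range 327).all fun m => eqChk (Data.eqs.getD m (0, 0, 0, 0, 0)) (Data.eqRows.getD m 0)

theorem eqsOk_eq : eqsOk = true := by decide +kernel

/-- A correction. -/
def fixF (k : ℕ) : List ℕ := Data.fix.getD k []

/-- The form of a corrected normal form. -/
def hF : ℕ → ℕ → List ℕ
  | 0, _ => []
  | n + 1, e => if 2 ^ n ≤ e then addF (fixF n) (actF (imgsOf (2 ^ n)) (hF n (e - 2 ^ n))) else hF n e

/-- The corrected relation. -/
def resF (k j : ℕ) : List ℕ :=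
  addF (relF k j) (addF (addF (fixF k) (actF (imgsOf (2 ^ k)) (fixF j))) (hF 7 (fullTgt k j)))

/-- The combinations. -/
def resOk : Bool :=
  (List.range 7).all fun j => (List.range (j + 1)).all fun k => (List.range 11).all fun i =>
    Nat.beq ((resF k j).getD i 0)
      (selXor (fun m => (Data.combos.getD ((Data.block.getD j []).getD k 0 * 11 + i) 0).testBit m)
        (fun m => Data.eqRows.getD m 0) 327)

theorem resOk_eq : resOk = true := by decide +kernel

end Cfsg.Agent.M23CodeSplit.Checks
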