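import Cfsg.Agent.Lib.M23CodeSplit.Checks
import Cfsg.Agent.Solvable.Gaschutz

/-!
Every extension of M23 by the subcode of dimension 11 has a complement.
-/

set_option autoImplicit false
set_option maxRecDepth 20000

namespace Cfsg.Agent.M23CodeSplit.Split

open Cfsg Cfsg.Agent.Golay.Basic Cfsg.Agent.Golay.Cert Cfsg.Agent.Golay.TabList
open Cfsg.Agent.Golay.M24
open Cfsg.Agent.M23Cocode Cfsg.Agent.M23CodeSplit.Collect Cfsg.Agent.M23CodeSplit.Checks

/-- A vector as a word. -/
noncomputable def cwV (x : V) : GolayPt → ZMod 2 := ∑ i : Fin 11, x i • Loop.cw (Loop.bit i.1)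

theorem cwV_add (x y : V) : cwV (x + y) = cwV x + cwV y := by
  simp only [cwV, Pi.add_apply, add_smul, Finset.sum_add_distrib]

theorem cwV_zero : cwV 0 = 0 := by simp [cwV]

theorem cw_expand : ∀ u : Loop.W, Loop.cw u = cwV (fun i => bitz u.1 i.1) := by
  refine Loop.add_eq_of_bits Loop.cw_xr (fun u v => ?_) ?_ (fun j hj => ?_)
  · rw [← cwV_add]; congr 1; funext i; exact bitz_xor _ _ _
  · have : (fun i : Fin 11 => bitz ((0 : Loop.W) : Fin 2048).1 i.1) = (0 : V) := funext fun i => bitz_zero _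
    rw [this, cwV_zero, Loop.cw_zero]
  · have hb : (Loop.bit j).1 = 2 ^ j := Nat.mod_eq_of_lt
      (Nat.pow_lt_pow_right (by norm_num) hj |>.trans_le (le_of_eq (by norm_num)))
    unfold cwV
    rw [Finset.sum_eq_single ⟨j, hj⟩]
    · simp [hb, bitz]
    · intro i _ hi
      have : i.1 ≠ j := fun h => hi (Fin.ext h)
      simp [hb, bitz, Nat.testBit_two_pow, Ne.symm this]
    · intro h; exact absurd (Finset.mem_univ _) h

theorem basis_mem (j : ℕ) (hj : j < 11) :
    Loop.cw (Loop.bit j) ∈ golayCode ∧ Loop.cw (Loop.bit j) none = 0 := by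
  have h := basisOk_eq
  rw [basisOk, List.all_eq_true] at h
  have h2 := h j (List.mem_range.2 hj)
  rw [Bool.and_eq_true, Bool.not_eq_true'] at h2
  refine ⟨word_maskSet_mem_of_isCode h2.1, ?_⟩
  show word (maskSet (Loop.cm (Loop.bit j))) none = 0
  rw [word, if_neg]
  rw [mem_maskSet, show ix none = 23 from rfl, h2.2]
  exact Bool.false_ne_true

theorem cwV_mem (x : V) : cwV x ∈ golayCode ∧ cwV x none = 0 := by
  refine ⟨Submodule.sum_mem _ fun i _ => Submodule.smul_mem _ _ (basis_mem i.1 i.2).1, ?_⟩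
  simp only [cwV, Finset.sum_apply, Pi.smul_apply, smul_eq_mul]
  exact Finset.sum_eq_zero fun i _ => by rw [(basis_mem i.1 i.2).2, mul_zero]

theorem exists_cwV {w : GolayPt → ZMod 2} (hw : w ∈ golayCode) (h0 : w none = 0) : ∃ x, cwV x = w := by
  have hm := mem_code_iff.1 hw
  have h := spanOk_eq
  rw [spanOk, List.all_eq_true] at h
  have h2 := h _ (mem_codeList hm)
  have hbit : (mask (support₂ w)).testBit 23 = false := by
    have h23 := testBit_mask (support₂ w) none
    rw [show ix none = 23 from rfl] at h23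
    rw [h23, decide_eq_false_iff_not, mem_support₂, not_not]
    exact h0
  rw [hbit, Bool.false_or] at h2
  generalize hu : Loop.decAux Cfsg.Agent.M23Cocode.Data.dual (mask (support₂ w)) % 2048 = u at h2
  have hlt : u < 2048 := hu ▸ Nat.mod_lt _ (by norm_num)
  refine ⟨_, ((cw_expand ⟨u, hlt⟩).symm.trans ?_)⟩
  show word (maskSet (enc Cfsg.Agent.M23Cocode.Data.sub u)) = w
  rw [Nat.eq_of_beq_eq_true h2, maskSet_mask, word_support₂]

theorem cwV_eq_zero {x : V} (h : cwV x = 0) : x = 0 := by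
  funext j
  set d := word (maskSet (Cfsg.Agent.M23Cocode.Data.dual.getD j.1 0)) with hd
  have h1 : ∑ p, d p * cwV x p = 0 := by rw [h]; exact Finset.sum_eq_zero fun p _ => mul_zero _
  have h2 : ∑ p, d p * cwV x p = ∑ i : Fin 11, x i * Build.pair d (Loop.bit i.1) := by
    simp only [cwV, Build.pair_def, Finset.sum_apply, Pi.smul_apply, smul_eq_mul, Finset.mul_sum]
    rw [Finset.sum_comm]
    exact Finset.sum_congr rfl fun i _ => Finset.sum_congr rfl fun p _ => mul_left_comm _ _ _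
  rw [h2, Finset.sum_eq_single j] at h1
  · rw [hd, Build.dual_pair j.1 j.2 j.1 j.2, if_pos rfl, mul_one] at h1
    exact h1
  · intro i _ hi
    rw [hd, Build.dual_pair j.1 j.2 i.1 i.2, if_neg (fun e => hi (Fin.ext e.symm)), mul_zero]
  · intro hj; exact absurd (Finset.mem_univ _) hj

theorem sum_comp {α β : Type} (s : Finset α) (x : α → ZMod 2) (f : α → β → ZMod 2) (g : β → β) :
    (∑ j ∈ s, x j • f j) ∘ g = ∑ j ∈ s, x j • (f j ∘ g) := by
  funext p
  simp only [Function.comp_apply, Finset.sum_apply, Pi.smul_apply]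

theorem cwV_comp (σ : Equiv.Perm GolayPt) (x : V) :
    cwV x ∘ ⇑σ⁻¹ = ∑ j : Fin 11, x j • (Loop.cw (Loop.bit j.1) ∘ ⇑σ⁻¹) :=
  (congrArg (· ∘ ⇑σ⁻¹) (rfl : cwV x = _)).trans
    (sum_comp Finset.univ x (fun j => Loop.cw (Loop.bit j.1)) _)

theorem cwV_sum (m : Fin 11 → Fin 11 → ZMod 2) (x : V) :
    cwV (fun i => ∑ j : Fin 11, m j i * x j) = ∑ j : Fin 11, x j • cwV (fun i => m j i) := by
  simp only [cwV, Finset.sum_smul, Finset.smul_sum, smul_smul]
  rw [Finset.sum_comm]
  exact Finset.sum_congr rfl fun j _ => Finset.sum_congr rfl fun i _ => by rw [mul_comm]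

theorem cw_perm {t u : ℕ} {σ : Equiv.Perm GolayPt} (hσ : IsTab t σ) (w : Loop.W)
    (he : imgTab t (Loop.cm w) = enc Cfsg.Agent.M23Cocode.Data.sub u) :
    Loop.cw w ∘ ⇑σ⁻¹ = word (maskSet (enc Cfsg.Agent.M23Cocode.Data.sub u)) := by
  have h1 := imgTab_mask hσ (maskSet (Loop.cm w))
  rw [mask_maskSet (Loop.cm_lt _), he] at h1
  rw [h1, maskSet_mask, ← M24Module.Basic.permW_word, Loop.cw]
  rfl

theorem cwV_act {t : ℕ} {gi : List ℕ} (h : imgChk t gi = true) {σ : Equiv.Perm GolayPt} (hσ : IsTab t σ)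
    (x : V) : cwV (actX gi x) = cwV x ∘ ⇑σ⁻¹ := by
  simp only [imgChk, Bool.and_eq_true, List.all_eq_true, List.mem_range, Nat.blt_eq] at h
  have hb : ∀ j : Fin 11, Loop.cw (Loop.bit j.1) ∘ ⇑σ⁻¹ = cwV (fun i => bitz (gi.getD j.1 0) i.1) := by
    intro j
    obtain ⟨hlt, he⟩ := h.2 j.1 j.2
    exact (cw_perm hσ _ (Nat.eq_of_beq_eq_true he)).trans (cw_expand ⟨_, hlt⟩)
  rw [cwV_comp]
  simp only [hb]
  exact cwV_sum (fun j i => bitz (gi.getD j.1 0) i.1) x

section Main

variable {E : Type*} [Group E] [Finite E] (N : Subgroup E) [hN : N.Normal]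
variable (φ : E ⧸ N ≃* ↥Spor.M23)
variable (ψ : Additive ↥N →+ (GolayPt → ZMod 2))

/-- The projection. -/
noncomputable def proj : E →* ↥Spor.M23 := φ.toMonoidHom.comp (QuotientGroup.mk' N)

theorem proj_eq_one {e : E} : proj N φ e = 1 ↔ e ∈ N := by
  show φ (QuotientGroup.mk e) = 1 ↔ _
  rw [φ.map_eq_one_iff, QuotientGroup.eq_one_iff]

theorem proj_surjective : Function.Surjective (proj N φ) :=
  φ.surjective.comp (QuotientGroup.mk'_surjective N)

theorem result
    (hinj : Function.Injective ψ)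
    (hrange : ∀ w : GolayPt → ZMod 2, w ∈ Set.range ψ ↔ (w ∈ golayCode ∧ w none = 0))
    (hψ : ∀ (g : E) (n : ↥N), ψ (Additive.ofMul ⟨g * n * g⁻¹, hN.conj_mem n n.2 g⟩)
        = ψ (Additive.ofMul n) ∘ ⇑(((φ (QuotientGroup.mk g) : ↥Spor.M23) : Equiv.Perm GolayPt)⁻¹)) :
    ∃ H : Subgroup E, H ⊓ N = ⊥ ∧ H ⊔ N = ⊤ := by
  classical
  -- the kernel as vectors
  have hex : ∀ x : V, ∃ n : Additive ↥N, ψ n = cwV x := fun x => (hrange _).2 (cwV_mem x)
  choose nOf hnOf using hex
  let ι : V → E := fun x => ((Additive.toMul (nOf x) : ↥N) : E)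
  have hιN : ∀ x, ι x ∈ N := fun x => (Additive.toMul (nOf x)).2
  have hιadd : ∀ x y, ι (x + y) = ι x * ι y := fun x y => by
    have : nOf (x + y) = nOf x + nOf y := hinj (by rw [map_add, hnOf, hnOf, hnOf, cwV_add])
    show ((Additive.toMul (nOf (x + y)) : ↥N) : E) = _
    rw [this]; rfl
  have hι0 : ι 0 = 1 := by
    have := hιadd 0 0; rw [add_zero] at this; exact mul_eq_left.1 this.symm
  have hιinj : ∀ x, ι x = 1 → x = 0 := fun x hx => cwV_eq_zero (by
    rw [← hnOf, show nOf x = 0 from Subtype.ext hx, map_zero])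
  have hι2 : ∀ x, ι x * ι x = 1 := fun x => by
    rw [← hιadd, show x + x = 0 from funext fun i => (Build.add_self₂ (x i)), hι0]
  have hιsurj : ∀ e ∈ N, ∃ x, ι x = e := fun e he => by
    obtain ⟨h1, h2⟩ := (hrange _).1 ⟨Additive.ofMul ⟨e, he⟩, rfl⟩
    obtain ⟨x, hx⟩ := exists_cwV h1 h2
    exact ⟨x, congrArg (fun n : Additive ↥N => ((Additive.toMul n : ↥N) : E)) (hinj ((hnOf x).trans hx))⟩
  have hcomm : IsMulCommutative ↥N := isMulCommutative_iff.mpr fun a b =>
    Additive.ofMul.injective (hinj (by rw [ofMul_mul, ofMul_mul, map_add, map_add, add_comm]))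
  have hconj : ∀ (g : E) (t : ℕ) (gi : List ℕ), imgChk t gi = true →
      IsTab t ((proj N φ g : ↥Spor.M23) : Equiv.Perm GolayPt) → ∀ x, g * ι x = ι (actX gi x) * g := by
    intro g t gi hc ht x
    have h1 := hψ g (Additive.toMul (nOf x))
    have h2 : (⟨g * ι x * g⁻¹, hN.conj_mem _ (hιN x) g⟩ : ↥N) = Additive.toMul (nOf (actX gi x)) :=
      Additive.ofMul.injective (hinj (by
        refine h1.trans ?_
        show ψ (nOf x) ∘ _ = ψ (nOf _)
        rw [hnOf, hnOf, cwV_act hc ht]
        rfl))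
    have h3 : g * ι x * g⁻¹ = ι (actX gi x) := congrArg Subtype.val h2
    rw [← h3, inv_mul_cancel_right]
  -- lifts
  have hC := elemsOk_eq
  simp only [elemsOk, Bool.and_eq_true, List.all_eq_true, List.mem_range] at hC
  obtain ⟨⟨⟨hCe, hCg⟩, hC0⟩, hCm⟩ := hC
  have hlift : ∀ t gi, imgChk t gi = true →
      ∃ e : E, IsTab t ((proj N φ e : ↥Spor.M23) : Equiv.Perm GolayPt) := by
    intro t gi h
    simp only [imgChk, Bool.and_eq_true] at h
    obtain ⟨e, he⟩ := proj_surjective N φ
      ⟨tabPerm t, M23Gen.Use.mem_of_tab h.1.1 (Nat.eq_of_beq_eq_true h.1.2)⟩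
    exact ⟨e, by rw [he]; exact isTab_tabPerm h.1.1⟩
  choose liftE hliftE using hlift
  have hpow : ∀ k < 7, (2 : ℕ) ^ k < 128 := fun k hk => by
    have : (2 : ℕ) ^ k ≤ 2 ^ 6 := Nat.pow_le_pow_right (by norm_num) (by omega)
    norm_num at this; omega
  let A : ℕ → E := fun k => if hk : k < 7 then liftE _ _ (hCe _ (hpow k hk)) else 1
  have hA : ∀ k < 7, IsTab (elemT (2 ^ k)) ((proj N φ (A k) : ↥Spor.M23) : Equiv.Perm GolayPt) :=
    fun k hk => by simp only [A, dif_pos hk]; exact hliftE _ _ _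
  have heh : ∀ n ≤ 7, ∀ e < 2 ^ n,
      IsTab (elemT e) ((proj N φ (eh A n e) : ↥Spor.M23) : Equiv.Perm GolayPt) := by
    intro n
    induction n with
    | zero =>
      intro _ e he
      obtain rfl : e = 0 := by simpa using he
      rw [eh, map_one, Subgroup.coe_one, Nat.eq_of_beq_eq_true hC0]
      exact isTab_one
    | succ n ih =>
      intro hn e he
      rcases Nat.lt_or_ge e (2 ^ n) with h | h
      · rw [eh_low A h]; exact ih (by omega) e h
      · obtain ⟨e', rfl⟩ := Nat.exists_eq_add_of_le h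
        have he' : e' < 2 ^ n := by rw [pow_succ] at he; omega
        rw [eh_high, map_mul, Subgroup.coe_mul, Nat.eq_of_beq_eq_true ((hCm n (by omega)).2 e' he')]
        exact isTab_mul (hA n (by omega)) (ih (by omega) e' he')
  have heh7 : ∀ e < 128, IsTab (elemT e) ((proj N φ (eh A 7 e) : ↥Spor.M23) : Equiv.Perm GolayPt) :=
    fun e he => heh 7 le_rfl e he
  -- kernel parts
  have hdiff : ∀ (a b : E) (t : ℕ), IsTab t ((proj N φ a : ↥Spor.M23) : Equiv.Perm GolayPt) →
      IsTab t ((proj N φ b : ↥Spor.M23) : Equiv.Perm GolayPt) → ∃ x, a = ι x * b := by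
    intro a b t ha hb
    have h : proj N φ (a * b⁻¹) = 1 := by
      rw [map_mul, map_inv, show proj N φ a = proj N φ b from Subtype.ext (ha.unique hb), mul_inv_cancel]
    obtain ⟨x, hx⟩ := hιsurj _ ((proj_eq_one N φ).1 h)
    exact ⟨x, by rw [hx, inv_mul_cancel_right]⟩
  have hR := relOk_eq
  simp only [relOk, Bool.and_eq_true, List.all_eq_true, List.mem_range, Nat.blt_eq] at hR
  have hfull : ∀ j < 7, ∀ k ≤ j, fullTgt k j < 128 ∧
      eh A 7 (fullTgt k j) = if k = j then eh A j (tgt k j) else A j * eh A j (tgt k j) := by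
    intro j hj k hk
    have hlt := (hR j hj k (by omega)).1.2
    have h2 : (2 : ℕ) ^ (j + 1) ≤ 128 := by
      have : (2 : ℕ) ^ (j + 1) ≤ 2 ^ 7 := Nat.pow_le_pow_right (by norm_num) (by omega)
      norm_num at this; omega
    have h3 : (2 : ℕ) ^ (j + 1) = 2 ^ j + 2 ^ j := by rw [pow_succ]; ring
    rcases eq_or_ne k j with rfl | hne
    · have : fullTgt k k = tgt k k := by simp [fullTgt]
      rw [this, if_pos rfl]
      exact ⟨by omega, eh_mono A (by omega) hlt⟩
    · have hb : Nat.beq k j = false := by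
        cases h : Nat.beq k j with
        | false => rfl
        | true => exact absurd (Nat.eq_of_beq_eq_true h) hne
      have : fullTgt k j = 2 ^ j + tgt k j := by simp [fullTgt, hb]
      rw [this, if_neg hne, eh_mono A (by omega : j + 1 ≤ 7) (by omega), eh_high]
      exact ⟨by omega, rfl⟩
  have hrelv : ∀ j, j < 7 → ∀ k, k ≤ j → ∃ x : V, A k * A j = ι x * eh A 7 (fullTgt k j) := by
    intro j hj k hk
    refine hdiff _ _ _ ?_ (heh7 _ (hfull j hj k hk).1)
    rw [map_mul, Subgroup.coe_mul, ← Nat.eq_of_beq_eq_true (hR j hj k (by omega)).2,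
      Nat.eq_of_beq_eq_true (hCm k (by omega)).1, Nat.eq_of_beq_eq_true (hCm j hj).1]
    exact isTab_mul (hA k (by omega)) (hA j hj)
  choose rx hrx using hrelv
  have hK := conjOk_eq
  simp only [conjOk, Bool.and_eq_true, List.all_eq_true, List.mem_range, Nat.blt_eq] at hK
  let G : ℕ → E := fun u => if hu : u < 4 then liftE _ _ (hCg u hu) else 1
  have hG : ∀ u < 4, IsTab (gT u) ((proj N φ (G u) : ↥Spor.M23) : Equiv.Perm GolayPt) :=
    fun u hu => by simp only [G, dif_pos hu]; exact hliftE _ _ _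
  have hcv : ∀ i, i < 144 → ∃ x : V,
      G (cp i).1 * eh A 7 (cp i).2.1 = ι x * (eh A 7 (cp i).2.2 * G (cp i).1) := by
    intro i hi
    obtain ⟨⟨⟨h1, h2⟩, h3⟩, h4⟩ := hK i hi
    refine hdiff _ _ (mulTab (gT (cp i).1) (elemT (cp i).2.1)) ?_ ?_
    · rw [map_mul, Subgroup.coe_mul]; exact isTab_mul (hG _ h1) (heh7 _ h2)
    · rw [Nat.eq_of_beq_eq_true h4, map_mul, Subgroup.coe_mul]; exact isTab_mul (heh7 _ h3) (hG _ h1)
  choose cx hcx using hcv
  let blockVal : ℕ → V := fun b =>
    if b < 28 then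
      (if h : (relPairs.getD b (0, 0)).2 < 7 ∧ (relPairs.getD b (0, 0)).1 ≤ (relPairs.getD b (0, 0)).2
        then rx _ h.1 _ h.2 else 0)
    else (if h : b - 28 < 144 then cx _ h else 0)
  let v : ℕ → ZMod 2 := fun i => blockVal (i / 11) ⟨i % 11, Nat.mod_lt _ (by norm_num)⟩
  have hvar : ∀ b < 172, fv v (varF b) = blockVal b := fun b hb => by
    rw [fv_var v hb]
    funext i
    have h1 : (b * 11 + i.1) / 11 = b := by have := i.2; omega
    have h2 : (b * 11 + i.1) % 11 = i.1 := by have := i.2; omega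
    show blockVal ((b * 11 + i.1) / 11) ⟨(b * 11 + i.1) % 11, _⟩ = _
    simp only [h1, h2]
  have hrelF : ∀ j (hj : j < 7) k (hk : k ≤ j), fv v (relF k j) = rx j hj k hk := by
    intro j hj k hk
    obtain ⟨⟨⟨hb, hp⟩, -⟩, -⟩ := hR j hj k (by omega)
    rw [relF, hvar _ (by omega)]
    rw [beq_iff_eq] at hp
    have key : ∀ q : ℕ × ℕ, q = (k, j) →
        (if h : q.2 < 7 ∧ q.1 ≤ q.2 then rx _ h.1 _ h.2 else 0) = rx j hj k hk := by
      rintro q rfl; rw [dif_pos ⟨hj, hk⟩]
    exact (if_pos hb).trans (key _ hp)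
  have hcF : ∀ o (ho : o < 144), fv v (cblock o) = cx o ho := fun o ho => by
    rw [cblock, hvar _ (by omega)]
    have key : ∀ q, q = o → (if h : q < 144 then cx _ h else 0) = cx o ho := by
      rintro q rfl; rw [dif_pos ho]
    exact (if_neg (by omega)).trans (key _ (Nat.add_sub_cancel_left 28 o))
  have hAct : ∀ k < 7, ∀ x, A k * ι x = ι (actX (imgsOf (2 ^ k)) x) * A k := fun k hk =>
    hconj _ _ _ (hCe _ (hpow k hk)) (hA k hk)
  have S : Setting ι A v := ⟨hιadd, hAct, fun j hj k hk => by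
    rw [hrx j hj k hk, hrelF j hj k hk, (hfull j hj k hk).2]⟩
  have cancel : ∀ {x y : V} {a : E}, ι x * a = ι y * a → x + y = 0 := fun {x y a} h => hιinj _ (by
    rw [hιadd, mul_right_cancel h, hι2])
  -- the equations
  have hQ := eqsOk_eq
  simp only [eqsOk, List.all_eq_true, List.mem_range] at hQ
  have hrow : ∀ m < 327, rv v (Data.eqRows.getD m 0) = 0 := by
    intro m hm
    have h := hQ m hm
    generalize hw : Data.eqRows.getD m 0 = row at h
    generalize Data.eqs.getD m (0, 0, 0, 0, 0) = e at h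
    obtain ⟨kind, a, b, c, r⟩ := e
    simp only [eqChk, Bool.and_eq_true, Nat.blt_eq] at h
    obtain ⟨hr, h⟩ := h
    rcases Nat.eq_zero_or_pos kind with rfl | hkind
    · simp only [Nat.beq, cond_true, Bool.and_eq_true, Nat.blt_eq] at h
      obtain ⟨⟨⟨⟨ha, hb⟩, hc⟩, hrow⟩, hres⟩ := h
      have a' := hpow a ha
      have b' := hpow b hb
      have c' := hpow c hc
      obtain ⟨l1, e1⟩ := S.mul_spec a' b'
      obtain ⟨-, e2⟩ := S.mul_spec l1 c'
      obtain ⟨l3, e3⟩ := S.mul_spec b' c'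
      obtain ⟨-, e4⟩ := S.mul_spec a' l3
      have hkey : fv v (assocF (2 ^ a) (2 ^ b) (2 ^ c)) = 0 := by
        have key := mul_assoc (eh A 7 (2 ^ a)) (eh A 7 (2 ^ b)) (eh A 7 (2 ^ c))
        rw [e1, mul_assoc, e2, ← mul_assoc, ← hιadd, e3, ← mul_assoc,
          hconj _ _ _ (hCe _ a') (heh7 _ a'), mul_assoc, e4, ← mul_assoc, ← hιadd,
          Nat.eq_of_beq_eq_true hres] at key
        rw [assocF, fv_add, fv_add, fv_add, fv_act]
        exact cancel key
      have := congrFun hkey ⟨r, hr⟩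
      rw [← Nat.eq_of_beq_eq_true hrow]
      exact this
    · have hk : Nat.beq kind 0 = false := by
        cases kind with
        | zero => omega
        | succ n => rfl
      simp only [hk, cond_false, Bool.and_eq_true, Nat.blt_eq] at h
      obtain ⟨⟨⟨⟨⟨⟨⟨ha, hb⟩, hc⟩, hrow⟩, hu2⟩, hu3⟩, hz⟩, hz'⟩ := h
      obtain ⟨⟨⟨hu, hq⟩, hi⟩, -⟩ := hK a ha
      obtain ⟨⟨⟨-, hq2⟩, hi2⟩, -⟩ := hK b hb
      obtain ⟨-, e1⟩ := S.mul_spec hq hq2
      obtain ⟨-, e2⟩ := S.mul_spec hi hi2
      have c1 := hcx a ha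
      have c2 := hcx b hb
      have c3 := hcx c hc
      rw [Nat.eq_of_beq_eq_true hu2] at c2
      rw [Nat.eq_of_beq_eq_true hu3] at c3
      rw [← hcF a ha] at c1
      rw [← hcF b hb] at c2
      rw [← hcF c hc] at c3
      have key := (mul_assoc (G (cp a).1) (eh A 7 (cp a).2.1) (eh A 7 (cp b).2.1)).symm
      rw [e1, ← mul_assoc, hconj _ _ _ (hCg _ hu) (hG _ hu), mul_assoc, Nat.eq_of_beq_eq_true hz, c3,
        c1] at key
      have key2 : ι (fv v (cblock a)) * (eh A 7 (cp a).2.2 * G (cp a).1) * eh A 7 (cp b).2.1 =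
          ι (fv v (cblock a) + actX (imgsOf (cp a).2.2) (fv v (cblock b)) +
            fv v (mulNF 7 (cp a).2.2 (cp b).2.2).2) * (eh A 7 (cp c).2.2 * G (cp a).1) := by
        rw [mul_assoc, mul_assoc (eh A 7 (cp a).2.2), c2, ← mul_assoc (eh A 7 (cp a).2.2),
          hconj _ _ _ (hCe _ hi) (heh7 _ hi), mul_assoc (ι (actX _ _)), ← mul_assoc (eh A 7 (cp a).2.2),
          e2, Nat.eq_of_beq_eq_true hz', hιadd, hιadd]
        simp only [mul_assoc]
      rw [key2, ← mul_assoc (ι (actX _ _)), ← hιadd] at key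
      have hkey : fv v (stabF a b c) = 0 := by
        rw [stabF, fv_add, fv_add, fv_add, fv_add, fv_act, fv_act]
        exact cancel key
      have := congrFun hkey ⟨r, hr⟩
      rw [← Nat.eq_of_beq_eq_true hrow]
      exact this
  have hres : ∀ j < 7, ∀ k ≤ j, fv v (resF k j) = 0 := by
    intro j hj k hk
    funext i
    have h := resOk_eq
    simp only [resOk, List.all_eq_true, List.mem_range] at h
    show rv v _ = 0
    rw [Nat.eq_of_beq_eq_true (h j hj k (by omega) i.1 i.2), rv_selXor]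
    exact Finset.sum_eq_zero fun m hm => by rw [hrow m (Finset.mem_range.1 hm)]; exact ite_self _
  -- corrected lifts
  let B : ℕ → E := fun k => ι (fv v (fixF k)) * A k
  have hBe : ∀ n ≤ 7, ∀ e < 2 ^ n, eh B n e = ι (fv v (hF n e)) * eh A n e := by
    intro n
    induction n with
    | zero => intro _ e _; rw [eh, eh, hF, fv_nil, hι0, mul_one]
    | succ n ih =>
      intro hn e he
      rcases Nat.lt_or_ge e (2 ^ n) with h | h
      · rw [eh_low B h, eh_low A h, hF, if_neg (by omega)]; exact ih (by omega) e h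
      · obtain ⟨e', rfl⟩ := Nat.exists_eq_add_of_le h
        have he' : e' < 2 ^ n := by rw [pow_succ] at he; omega
        rw [eh_high, eh_high, hF, if_pos (by omega), Nat.add_sub_cancel_left, fv_add, fv_act, hιadd,
          ih (by omega) e' he']
        show ι _ * A n * (ι _ * eh A n e') = _
        rw [mul_assoc, ← mul_assoc (A n), hAct n (by omega), mul_assoc, mul_assoc]
  have hBact : ∀ k < 7, ∀ x, B k * ι x = ι (actX (imgsOf (2 ^ k)) x) * B k := fun k hk x => by
    show ι _ * A k * ι x = ι _ * (ι _ * A k)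
    rw [mul_assoc, hAct k hk, ← mul_assoc, ← hιadd, ← mul_assoc, ← hιadd, add_comm]
  have SB : Setting ι B (fun _ => 0) := ⟨hιadd, hBact, fun j hj k hk => by
    rw [fv_zero_fun, hι0, one_mul]
    obtain ⟨hlt, hfe⟩ := hfull j hj k hk
    have h1 : B k * B j = ι (fv v (fixF k) + actX (imgsOf (2 ^ k)) (fv v (fixF j)) + fv v (relF k j)) *
        eh A 7 (fullTgt k j) := by
      show ι _ * A k * (ι _ * A j) = _
      rw [mul_assoc, ← mul_assoc (A k), hAct k (by omega), mul_assoc, hrx j hj k hk, hrelF j hj k hk,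
        hιadd, hιadd]
      simp only [mul_assoc]
    have h2 : fv v (fixF k) + actX (imgsOf (2 ^ k)) (fv v (fixF j)) + fv v (relF k j) =
        fv v (hF 7 (fullTgt k j)) := by
      have h0 := hres j hj k hk
      rw [resF, fv_add, fv_add, fv_add, fv_act] at h0
      funext i
      have h00 := congrFun h0 i
      have two : (2 : ZMod 2) = 0 := by decide
      simp only [Pi.add_apply, Pi.zero_apply] at h00 ⊢
      linear_combination h00 - fv v (hF 7 (fullTgt k j)) i * two
    rw [h1, h2, ← hBe 7 le_rfl _ hlt]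
    rcases eq_or_ne k j with rfl | hne
    · have : fullTgt k k = tgt k k := by simp [fullTgt]
      rw [this, if_pos rfl, eh_mono B (by omega) (hR k hj k (by omega)).1.2]
    · have hlt' := (hR j hj k (by omega)).1.2
      have hb : Nat.beq k j = false := by
        cases h : Nat.beq k j with
        | false => rfl
        | true => exact absurd (Nat.eq_of_beq_eq_true h) hne
      have : fullTgt k j = 2 ^ j + tgt k j := by simp [fullTgt, hb]
      rw [this, if_neg hne, eh_mono B (by omega : j + 1 ≤ 7) (by rw [pow_succ]; omega), eh_high]⟩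
  -- a complement over the Sylow subgroup
  let P : Subgroup E :=
    { carrier := {g | ∃ e < 128, g = eh B 7 e}
      one_mem' := ⟨0, by norm_num, by rw [eh_mono B (Nat.zero_le 7) (by norm_num : 0 < 2 ^ 0), eh]⟩
      mul_mem' := by
        rintro _ _ ⟨x, hx, rfl⟩ ⟨y, hy, rfl⟩
        obtain ⟨h1, h2⟩ := SB.mul_spec hx hy
        exact ⟨_, h1, by rw [h2, fv_zero_fun, hι0, one_mul]⟩
      inv_mem' := by
        rintro g ⟨x, hx, rfl⟩
        rw [← zpow_neg_one]
        obtain ⟨n, hn⟩ := (mem_powers_iff_mem_zpowers (x := eh B 7 x)).2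
          (Subgroup.zpow_mem_zpowers (eh B 7 x) (-1))
        rw [← hn]
        clear hn
        induction n with
        | zero => exact ⟨0, by norm_num, by show eh B 7 x ^ 0 = _; rw [pow_zero, eh_mono B (Nat.zero_le 7) (by norm_num : 0 < 2 ^ 0), eh]⟩
        | succ n ih =>
          obtain ⟨y, hy, hye⟩ := ih
          obtain ⟨h1, h2⟩ := SB.mul_spec hy hx
          exact ⟨_, h1, by
            show eh B 7 x ^ (n + 1) = _
            rw [pow_succ, show eh B 7 x ^ n = eh B 7 y from hye, h2, fv_zero_fun, hι0, one_mul]⟩ }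
  have hprojB : ∀ e < 128, proj N φ (eh B 7 e) = proj N φ (eh A 7 e) := fun e he => by
    rw [hBe 7 le_rfl e he, map_mul, (proj_eq_one N φ).2 (hιN _), one_mul]
  have hnf : ∀ e < 128, proj N φ (eh B 7 e) = 1 → e = 0 := by
    intro e he h1
    by_contra hne
    obtain ⟨d, rfl⟩ := Nat.exists_eq_succ_of_ne_zero hne
    have h := nfOk_eq
    simp only [nfOk, List.all_eq_true, List.mem_range, Bool.not_eq_true'] at h
    have h2 := h d (by omega)
    rw [Bool.eq_false_iff] at h2
    refine h2 (List.all_eq_true.2 fun i hi => ?_)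
    rw [hprojB _ he] at h1
    have := heh7 _ he (pt i)
    rw [h1, Subgroup.coe_one, Equiv.Perm.one_apply, ix_pt (List.mem_range.1 hi)] at this
    rw [← this]
    exact Nat.beq_refl i
  have hPN : P ⊓ N = ⊥ := by
    rw [eq_bot_iff]
    rintro g ⟨⟨e, he, rfl⟩, hgN⟩
    rw [Subgroup.mem_bot, hnf e he ((proj_eq_one N φ).2 hgN),
      eh_mono B (Nat.zero_le 7) (by norm_num : 0 < 2 ^ 0), eh]
  set U := N ⊔ P
  have hker : (proj N φ).ker = N := by ext g; exact proj_eq_one N φ
  have hUidx : Odd U.index := by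
    have hUmap : U.map (proj N φ) = P.map (proj N φ) := by
      rw [Subgroup.map_sup, (Subgroup.map_eq_bot_iff _).2 hker.ge, bot_sup_eq]
    have hU : U.index = (P.map (proj N φ)).index := by
      rw [← hUmap, Subgroup.index_map_eq _ (proj_surjective N φ)]
      rw [hker]; exact le_sup_left
    have hcard : Nat.card (P.map (proj N φ)) = 128 := by
      have hbij : Function.Bijective (fun e : Fin 128 =>
          (⟨proj N φ (eh B 7 e.1), _, ⟨e.1, e.2, rfl⟩, rfl⟩ : P.map (proj N φ))) := by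
        refine ⟨fun a b hab => ?_, ?_⟩
        · have hab' : proj N φ (eh B 7 a.1) = proj N φ (eh B 7 b.1) := congrArg Subtype.val hab
          rw [hprojB _ a.2, hprojB _ b.2] at hab'
          have hD := distinctOk_eq
          simp only [distinctOk, Bool.and_eq_true, List.all_eq_true, List.mem_range, Bool.or_eq_true,
            Bool.not_eq_true'] at hD
          have ht := heh7 _ b.2
          rw [← hab'] at ht
          have he := eq_of_isTab (hD a.1 a.2).1 (hD b.1 b.2).1 (heh7 _ a.2) ht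
          rcases (hD a.1 a.2).2 b.1 b.2 with h | h
          · rw [he, show Nat.beq (elemT b.1) (elemT b.1) = true from Nat.beq_refl _] at h
            exact Bool.noConfusion h
          · exact Fin.ext (Nat.eq_of_beq_eq_true h)
        · rintro ⟨_, g, ⟨e, he, rfl⟩, rfl⟩; exact ⟨⟨e, he⟩, rfl⟩
      rw [← Nat.card_eq_of_bijective _ hbij, Nat.card_fin]
    have hmul := Subgroup.card_mul_index (P.map (proj N φ))
    rw [hcard, M23Gen.Use.card_M23] at hmul
    rw [hU]
    have : (P.map (proj N φ)).index = 79695 := by omega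
    rw [this]; decide
  have hcop : (Nat.card ↥N).Coprime U.index := by
    have h2 : IsPGroup 2 ↥N := fun n => ⟨1, by
      obtain ⟨x, hx⟩ := hιsurj _ n.2
      apply Subtype.ext
      rw [pow_one, sq, Subgroup.coe_mul, ← hx, hι2]; rfl⟩
    obtain ⟨a, ha⟩ := IsPGroup.iff_card.1 h2
    rw [ha]
    exact Nat.Coprime.pow_left _ (Nat.coprime_two_left.2 hUidx)
  obtain ⟨H, hH⟩ := Cfsg.Agent.Solvable.Gaschutz.exists_complement' (K := N) (U := U) (A := P)
    le_sup_left hcop le_sup_right hPN rfl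
  exact ⟨H, by rw [inf_comm]; exact disjoint_iff.1 hH.disjoint, by rw [sup_comm]; exact hH.sup_eq_top⟩

end Main

end Cfsg.Agent.M23CodeSplit.Split
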